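import Groth.Agent.Lib.OX.PerfectLemmas
import Groth.Agent.Lib.OX.PerfectCriterion
import Groth.Agent.Lib.KSix19.StalkAmp
import Groth.Agent.Lib.KSix19.TorAmp
import Groth.Agent.Lib.KSix19.AmpSmooth
import Groth.Agent.Lib.RelAmp22.Affine
import Groth.Agent.Lib.RelAmp22.FFDesc
import Groth.Agent.S6950

/-! # Stalkwise tor amplitude under flat pullback -/

set_option autoImplicit false
set_option maxHeartbeats 1000000
universe u

open CategoryTheory CategoryTheory.Limits AlgebraicGeometry HomologicalComplex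

attribute [local instance] HasDerivedCategory.standard

namespace GrothLib.PerfDesc25

open GrothLib.OX GrothLib.KSix19

variable {X Y : Scheme.{u}}

/-- Tor amplitude in `[a, b]` of the complex of stalks at `y`. -/
abbrev AmpSt (P : CochainComplex Y.Modules ℤ) (a b : ℤ) (y : Y) : Prop :=
  DRing.HasTorAmplitudeIn (Y.presheaf.stalk y) a b (DRing.toD ((stalkCx y).obj P))

/-- The stalks of a pullback of complexes. -/
noncomputable def stalkPullCxIso (f : X ⟶ Y) (P : CochainComplex Y.Modules ℤ) (x : X) :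
    (stalkCx x).obj ((pullCxF f).obj P) ≅ (DR.bc (f.stalkMap x).hom).obj ((stalkCx (f x)).obj P) :=
  HomologicalComplex.Hom.isoOfComponents (fun i => (pullStalkIso f x).app (P.X i))
    (fun i j _ => ((pullStalkIso f x).hom.naturality (P.d i j)).symm)

theorem ampSt_of_pullCx (f : X ⟶ Y) [Flat f] (P : CochainComplex Y.Modules ℤ) {a b : ℤ} {x : X}
    (h : AmpSt ((pullCxF f).obj P) a b x) : AmpSt P a b (f x) := by
  letI := (f.stalkMap x).hom.toAlgebra
  haveI : Module.Flat (Y.presheaf.stalk (f x)) (X.presheaf.stalk x) := Flat.stalkMap f x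
  haveI : IsLocalHom (algebraMap (Y.presheaf.stalk (f x)) (X.presheaf.stalk x)) :=
    inferInstanceAs (IsLocalHom (f.stalkMap x).hom)
  haveI : Module.FaithfullyFlat (Y.presheaf.stalk (f x)) (X.presheaf.stalk x) :=
    Module.FaithfullyFlat.of_flat_of_isLocalHom
  exact Groth.Agent.S6950.result (R := Y.presheaf.stalk (f x)) (R' := X.presheaf.stalk x)
    ((stalkCx (f x)).obj P) a b (amp_of_iso (DerivedCategory.Q.mapIso (stalkPullCxIso f P x)) h)

theorem ampSt_pullCx (f : X ⟶ Y) [Flat f] (P : CochainComplex Y.Modules ℤ) {a b : ℤ} {x : X}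
    (h : AmpSt P a b (f x)) : AmpSt ((pullCxF f).obj P) a b x :=
  amp_of_iso (DerivedCategory.Q.mapIso (stalkPullCxIso f P x).symm)
    (amp_bc_flat (f.stalkMap x).hom (Flat.stalkMap f x) h)

theorem ampSt_mono {P : CochainComplex Y.Modules ℤ} {a a' b b' : ℤ} (ha : a' ≤ a) (hb : b ≤ b') {y : Y}
    (h : AmpSt P a b y) : AmpSt P a' b' y := amp_mono ha hb h

/-- Around every point a perfect object has bounded stalkwise tor amplitude. -/
theorem exists_ampSt {P : CochainComplex X.Modules ℤ} (hP : DCoh.IsPerfect (DerivedCategory.Q.obj P)) (x : X) :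
    ∃ (V : X.Opens) (a b : ℤ), x ∈ V ∧ ∀ w ∈ V, AmpSt P a b w := by
  obtain ⟨V, E, hx, hE, ⟨e⟩⟩ := (isPerfect_iff_rep (Iso.refl _)).1 hP x
  obtain ⟨⟨a, b, hab⟩, hfl⟩ := hE
  refine ⟨V, a, b, hx, fun w hw => ?_⟩
  have hamp : DCoh.HasFlatAmplitudeIn a b (DCoh.toD (V : Scheme.{u}) ((pullCxF V.ι).obj P)) :=
    ⟨E, hab, fun i => flat_of_isFinLocFree (hfl i),
      ⟨e.symm ≪≫ DerivedCategory.Q.mapIso (restrictCxIso V P)⟩⟩
  exact ampSt_of_pullCx V.ι P ((hasTorAmplitudeAt_id_iff (X := (V : Scheme.{u})) ⟨w, hw⟩ a b _).1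
    (stalks_of_flatAmplitude hamp ⟨w, hw⟩))

/-- On a quasi-compact open a perfect object has uniformly bounded tor amplitude. -/
theorem exists_ampSt_of_isCompact {P : CochainComplex X.Modules ℤ} (hP : DCoh.IsPerfect (DerivedCategory.Q.obj P))
    {S : Set X} (hS : IsCompact S) : ∃ a b : ℤ, ∀ w ∈ S, AmpSt P a b w := by
  choose V a b hx h using exists_ampSt hP
  obtain ⟨t, ht⟩ := hS.elim_finite_subcover (fun x => (V x : Set X)) (fun x => (V x).isOpen)
    fun y _ => Set.mem_iUnion.2 ⟨y, hx y⟩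
  obtain ⟨A, hA⟩ := (t.finite_toSet.image a).bddBelow
  obtain ⟨B, hB⟩ := (t.finite_toSet.image b).bddAbove
  refine ⟨A, B, fun w hw => ?_⟩
  obtain ⟨i, hi, hwi⟩ := Set.mem_iUnion₂.1 (ht hw)
  exact ampSt_mono (hA ⟨i, hi, rfl⟩) (hB ⟨i, hi, rfl⟩) (h i w hwi)

/-- A pseudo-coherent complex with locally bounded stalkwise tor amplitude is perfect. -/
theorem isPerfect_of_ampSt {P : CochainComplex Y.Modules ℤ}
    (hpc : ∀ m : ℤ, DCoh.IsPseudoCoherentD m (DerivedCategory.Q.obj P))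
    (h : ∀ y : Y, ∃ (U : Y.Opens) (a b : ℤ), y ∈ U ∧ ∀ w ∈ U, AmpSt P a b w) :
    DCoh.IsPerfect (DerivedCategory.Q.obj P) := by
  refine isPerfect_of_locHasFiniteTorDim hpc fun y => ?_
  obtain ⟨U, a, b, hy, hU⟩ := h y
  have hst : DerSch.HasTorAmplitude (𝟙 (U : Scheme.{u})) a b ((pullCxF U.ι).obj P) := fun w =>
    (hasTorAmplitudeAt_id_iff w a b _).2 (ampSt_pullCx U.ι P (hU (U.ι w) w.2))
  haveI := GrothLib.RelAmp22.isLE_of_amp (𝟙 (U : Scheme.{u}))
    ((GrothLib.RelAmp22.hasTorAmplitude_iff (𝟙 (U : Scheme.{u})) a b _).1 hst)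
  haveI : (DCoh.toD (U : Scheme.{u}) ((pullCxF U.ι).obj P)).IsLE b :=
    DerivedCategory.TStructure.t.isLE_of_iso
      (DerivedCategory.Q.objObjPreimageIso (DerivedCategory.Q.obj ((pullCxF U.ι).obj P))) b
  obtain ⟨G, h1, h2, ⟨eG⟩⟩ := (flatAmplitude_iff_stalks (F := (pullCxF U.ι).obj P) b a b).2 hst
  refine ⟨U, a, b, hy, fun F ⟨eF⟩ => ⟨G, h1, h2, ?_⟩⟩
  obtain ⟨k⟩ := nonempty_iso_restrictCx U eF.symm
  exact ⟨eG ≪≫ DerivedCategory.Q.mapIso (restrictCxIso U P).symm ≪≫ k⟩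

/-- **Perfection descends along flat quasi-compact surjections.** -/
theorem isPerfect_of_pullCx (f : X ⟶ Y) [Flat f] [Surjective f] [QuasiCompact f]
    {P : CochainComplex Y.Modules ℤ} (hP : DCoh.IsKFlat P)
    (hq : DCoh.IsQCohD (DerivedCategory.Q.obj P))
    (h : DCoh.IsPerfect (DerivedCategory.Q.obj ((pullCxF f).obj P))) :
    DCoh.IsPerfect (DerivedCategory.Q.obj P) := by
  refine isPerfect_of_ampSt
    (fun m => GrothLib.RelAmp22.isPC_of_ff f hP hq (isPseudoCoherentD_of_isPerfect h m)) fun y => ?_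
  obtain ⟨_, ⟨U, hU, rfl⟩, hy, -⟩ := Y.isBasis_affineOpens.exists_subset_of_mem_open (Set.mem_univ y) isOpen_univ
  obtain ⟨a, b, hab⟩ := exists_ampSt_of_isCompact h (f.isCompact_preimage hU.isCompact)
  refine ⟨U, a, b, hy, fun w hw => ?_⟩
  obtain ⟨x, rfl⟩ := f.surjective w
  exact ampSt_of_pullCx f P (hab x hw)

end GrothLib.PerfDesc25
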